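import Mathlib
import Cfsg.Agent.Lib.SylowNumbers.Basic
import Cfsg.Agent.Lib.PGroups.Omega
import Cfsg.Agent.Lib.PLocal.CoprimeGen
import Cfsg.Agent.Lib.Brauer.Induction

/-!
# Groups with few class sizes: elementary tools
-/

set_option autoImplicit false

namespace Cfsg.Agent.Lib.TwoClassSizes

open Subgroup Cfsg.Agent.Lib.SylowNumbers.Basic
open scoped commutatorElement

variable {G : Type*} [Group G]

/-- The centralizer of an element. -/
abbrev cen (x : G) : Subgroup G := centralizer ({x} : Set G)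

theorem mem_cen {x g : G} : g ∈ cen x ↔ g * x = x * g := mem_centralizer_singleton_iff

theorem mem_cen' {x g : G} : g ∈ cen x ↔ Commute g x := mem_centralizer_singleton_iff

theorem cen_le_cen_of_mem_zpowers {x a : G} (h : a ∈ zpowers x) : cen x ≤ cen a := by
  intro g hg
  obtain ⟨k, rfl⟩ := mem_zpowers_iff.1 h
  exact mem_cen'.2 ((mem_cen'.1 hg).zpow_right k)

theorem conj_mem_cen_iff {g x c : G} : g * c * g⁻¹ ∈ cen (g * x * g⁻¹) ↔ c ∈ cen x := by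
  rw [mem_cen, mem_cen, show g * c * g⁻¹ * (g * x * g⁻¹) = g * (c * x) * g⁻¹ by group,
    show g * x * g⁻¹ * (g * c * g⁻¹) = g * (x * c) * g⁻¹ by group, mul_left_inj, mul_right_inj]

theorem mem_cen_conj {g x c : G} : c ∈ cen (g * x * g⁻¹) ↔ g⁻¹ * c * g ∈ cen x := by
  have h := conj_mem_cen_iff (g := g) (x := x) (c := g⁻¹ * c * g)
  rwa [show g * (g⁻¹ * c * g) * g⁻¹ = c by group] at h

theorem mem_center_of_conj {g z : G} (h : g * z * g⁻¹ ∈ center G) : z ∈ center G := by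
  have := mem_center_iff.1 h g
  have h2 : g * z * g⁻¹ = z := by
    calc g * z * g⁻¹ = g⁻¹ * (g * (g * z * g⁻¹)) := by group
      _ = g⁻¹ * (g * z * g⁻¹ * g) := by rw [this]
      _ = z := by group
  rwa [h2] at h

theorem conj_mem_center {g z : G} (h : z ∈ center G) : g * z * g⁻¹ ∈ center G :=
  (inferInstance : (center G).Normal).conj_mem z h g

theorem commute_of_coprime_mul {g x y : G} (hxy : Commute x y)
    (hcop : (orderOf x).Coprime (orderOf y)) (hg : Commute g (x * y)) : Commute g x := by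
  obtain ⟨n, hn⟩ := exists_pow_eq_self_of_coprime hcop.symm
  have h1 : (x * y) ^ orderOf y = x ^ orderOf y := by
    rw [hxy.mul_pow, pow_orderOf_eq_one, mul_one]
  rw [← hn, ← h1]
  exact (hg.pow_right _).pow_right _

theorem cen_mul_le {x y : G} (hxy : Commute x y) (hcop : (orderOf x).Coprime (orderOf y)) :
    cen (x * y) ≤ cen x ⊓ cen y := fun g hg =>
  ⟨mem_cen'.2 (commute_of_coprime_mul hxy hcop (mem_cen'.1 hg)),
    mem_cen'.2 (commute_of_coprime_mul hxy.symm hcop.symm (hxy.eq ▸ mem_cen'.1 hg))⟩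

variable [Finite G]

theorem coprime_of_prime_pow {p q k j : ℕ} (hp : p.Prime) (hq : q.Prime) (h : p ≠ q) :
    (p ^ k).Coprime (q ^ j) :=
  ((Nat.coprime_primes hp hq).2 h).pow k j

/-- A subgroup contains an element as soon as it contains all its primary parts. -/
theorem mem_of_primary_parts {K : Subgroup G} {g : G}
    (h : ∀ p : ℕ, p.Prime → ∀ a ∈ zpowers g, (∃ k, orderOf a = p ^ k) → a ∈ K) : g ∈ K := by
  induction hn : orderOf g using Nat.strong_induction_on generalizing g with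
  | _ n ih =>
  by_cases hn1 : n = 1
  · rw [orderOf_eq_one_iff.1 (hn.trans hn1)]; exact one_mem K
  obtain ⟨p, hp, hpn⟩ := Nat.exists_prime_and_dvd hn1
  obtain ⟨u, v, huv, -, hu, hv, huz, hvz⟩ := Brauer.Induction.exists_pParts p hp g
  rw [← huv]
  refine mul_mem (h p hp u huz hu) (ih _ ?_ (fun q hq a ha hk => h q hq a (zpowers_le.2 hvz ha) hk) rfl)
  obtain ⟨k, rfl⟩ := mem_zpowers_iff.1 hvz
  have hdvd : orderOf (g ^ k) ∣ orderOf g :=
    orderOf_dvd_of_pow_eq_one (by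
      rw [← zpow_natCast, ← zpow_mul, mul_comm, zpow_mul, zpow_natCast, pow_orderOf_eq_one, one_zpow])
  exact lt_of_le_of_ne (hn ▸ Nat.le_of_dvd (orderOf_pos g) hdvd) fun he => hv (he ▸ hpn)

theorem exists_primary_notMem {K : Subgroup G} {g : G} (h : g ∉ K) :
    ∃ p : ℕ, p.Prime ∧ ∃ a ∈ zpowers g, (∃ k, orderOf a = p ^ k) ∧ a ∉ K := by
  by_contra hcon
  push_neg at hcon
  exact h (mem_of_primary_parts hcon)

variable {p : ℕ} [hp : Fact p.Prime]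

theorem card_le_ordProj {H C : Subgroup G} (hH : IsPGroup p H) (hle : H ≤ C) :
    Nat.card H ≤ p ^ (Nat.card C).factorization p := by
  obtain ⟨n, hn⟩ := IsPGroup.iff_card.1 hH
  rw [hn]
  exact Nat.pow_le_pow_right hp.out.pos ((hp.out.pow_dvd_iff_le_factorization Finite.card_pos.ne').1
    (hn ▸ card_dvd_of_le hle))

/-- A Sylow subgroup of `G` meeting `C` in a Sylow subgroup of `C` containing a given
`p`-subgroup of `C`. -/
theorem exists_sylow_inf (C : Subgroup G) {P : Subgroup G} (hP : IsPGroup p P) (hPC : P ≤ C) :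
    ∃ R : Sylow p G, P ≤ R ∧
      Nat.card ((R : Subgroup G) ⊓ C : Subgroup G) = p ^ (Nat.card C).factorization p := by
  obtain ⟨S, hS⟩ := (hP.comap_of_injective C.subtype C.subtype_injective).exists_le_sylow
  obtain ⟨R, hR⟩ := (S.2.map C.subtype).exists_le_sylow
  refine ⟨R, fun x hx => hR ⟨⟨x, hPC hx⟩, hS hx, rfl⟩, le_antisymm ?_ ?_⟩
  · exact card_le_ordProj (R.2.to_le inf_le_left) inf_le_right
  · refine (le_of_eq ?_).trans (card_le_of_le (le_inf hR (map_subtype_le _)))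
    rw [card_map_of_injective C.subtype_injective, S.card_eq_multiplicity]

theorem isPGroup_zpowers' {x : G} (h : ∃ k, orderOf x = p ^ k) : IsPGroup p (zpowers x) := by
  obtain ⟨k, hk⟩ := h
  exact SylowNumbers.Basic.isPGroup_zpowers hk

theorem exists_orderOf_eq_pow {H : Subgroup G} (hH : IsPGroup p H) {x : G} (hx : x ∈ H) :
    ∃ k, orderOf x = p ^ k := by
  obtain ⟨k, hk⟩ := IsPGroup.iff_orderOf.1 hH ⟨x, hx⟩
  exact ⟨k, by rwa [Subgroup.orderOf_mk] at hk⟩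

/-- Inside a `p`-group `S`, a normalized noncentral subgroup has an element that is central in
`S` and of order `p` modulo the center of `G`. -/
theorem exists_nearly_central {S M : Subgroup G} (hS : IsPGroup p S) (hMS : M ≤ S)
    (hn : ∀ s ∈ S, ∀ y ∈ M, s * y * s⁻¹ ∈ M) (hM : ¬ M ≤ center G) :
    ∃ x ∈ M, x ∉ center G ∧ x ^ p ∈ center G ∧ ∀ s ∈ S, ⁅s, x⁆ ∈ center G := by
  set π := QuotientGroup.mk' (center G) with hπ
  have hS' : IsPGroup p (S.map π) := hS.map π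
  set M' := (M.map π).subgroupOf (S.map π) with hM'
  haveI : M'.Normal := ⟨by
    rintro ⟨_, _⟩ ⟨y, hy, hy'⟩ ⟨_, s, hs, rfl⟩
    exact ⟨s * y * s⁻¹, hn s hs y hy, by simp only [map_mul, map_inv] at hy' ⊢; rw [hy']; rfl⟩⟩
  have hne : M' ≠ ⊥ := by
    intro h
    refine hM fun y hy => ?_
    have : (⟨π y, mem_map_of_mem π (hMS hy)⟩ : S.map π) ∈ M' := mem_map_of_mem π hy
    rw [h, mem_bot] at this
    exact (QuotientGroup.eq_one_iff y).1 (congrArg Subtype.val this)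
  have hcap := PGroups.normal_inf_center_ne_bot hS' M' hne
  haveI : Nontrivial (M' ⊓ center (S.map π) : Subgroup (S.map π)) :=
    (nontrivial_iff_ne_bot _).2 hcap
  have hdvd : p ∣ Nat.card (M' ⊓ center (S.map π) : Subgroup (S.map π)) :=
    ((hS'.to_subgroup _).card_eq_or_dvd).resolve_left (Finite.one_lt_card).ne'
  obtain ⟨⟨z, hzM, hyc⟩, hord⟩ := exists_prime_orderOf_dvd_card' p hdvd
  rw [← Subgroup.orderOf_coe, ← Subgroup.orderOf_coe] at hord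
  obtain ⟨y, hy, hyz⟩ := hzM
  replace hord : orderOf (π y) = p := by rw [hyz]; exact hord
  have hzy : z = ⟨π y, mem_map_of_mem π (hMS hy)⟩ := Subtype.ext hyz.symm
  rw [hzy] at hyc
  refine ⟨y, hy, fun hc => ?_, ?_, fun s hs => ?_⟩
  · have h1 : π y = 1 := (QuotientGroup.eq_one_iff y).2 hc
    exact hp.out.ne_one (hord.symm.trans (orderOf_eq_one_iff.2 h1))
  · rw [← QuotientGroup.eq_one_iff, QuotientGroup.mk_pow]
    have := pow_orderOf_eq_one (π y)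
    rw [show orderOf (π y) = p from hord] at this
    exact this
  · have h1 : π s * π y = π y * π s :=
      congrArg Subtype.val (mem_center_iff.1 hyc ⟨π s, mem_map_of_mem π hs⟩)
    rw [← QuotientGroup.eq_one_iff]
    show π ⁅s, y⁆ = 1
    rw [map_commutatorElement, commutatorElement_eq_one_iff_mul_comm]
    exact h1

omit [Finite G] hp in
/-- If conjugation by `k` moves `t` by a central element and `t ^ p` is central, then `k ^ p`
centralizes `t`. -/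
theorem pow_mem_cen {t k : G} (hk : ⁅k, t⁆ ∈ center G) (ht : t ^ p ∈ center G) :
    k ^ p ∈ cen t := by
  have hc : ∀ g : G, Commute ⁅k, t⁆ g := fun g => (mem_center_iff.1 hk g).symm
  have hkt : k * t * k⁻¹ = ⁅k, t⁆ * t := by rw [commutatorElement_def]; group
  have hpow : ∀ n : ℕ, k ^ n * t * (k ^ n)⁻¹ = ⁅k, t⁆ ^ n * t := by
    intro n
    induction n with
    | zero => simp
    | succ n ih =>
      calc k ^ (n + 1) * t * (k ^ (n + 1))⁻¹ = k * (k ^ n * t * (k ^ n)⁻¹) * k⁻¹ := by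
            rw [pow_succ']; group
        _ = k * ⁅k, t⁆ ^ n * t * k⁻¹ := by rw [ih]; simp only [mul_assoc]
        _ = ⁅k, t⁆ ^ n * (k * t * k⁻¹) := by
            rw [((hc k).symm.pow_right n).eq]; simp only [mul_assoc]
        _ = ⁅k, t⁆ ^ (n + 1) * t := by rw [hkt, pow_succ, mul_assoc]
  have h1 : ⁅k, t⁆ ^ p = 1 := by
    have h2 : k * t ^ p * k⁻¹ = ⁅k, t⁆ ^ p * t ^ p := by
      rw [← conj_pow, hkt, (hc t).mul_pow]
    rw [mem_center_iff.1 ht k, mul_inv_cancel_right] at h2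
    exact mul_eq_right.1 h2.symm
  have h3 := hpow p
  rw [h1, one_mul, mul_inv_eq_iff_eq_mul] at h3
  exact mem_cen.2 h3

omit [Finite G] in
/-- Elements moving `t` by central elements commute modulo the centralizer of `t`. -/
theorem commutator_mem_cen {t a b : G} (ha : ⁅a, t⁆ ∈ center G) (hb : ⁅b, t⁆ ∈ center G) :
    ⁅a, b⁆ ∈ cen t := by
  have key : ∀ {a : G}, ⁅a, t⁆ ∈ center G → ∀ w : G, a * t * w = ⁅a, t⁆ * (t * (a * w)) := by
    intro a _ w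
    rw [commutatorElement_def]; group
  have hA : a * t * a⁻¹ = ⁅a, t⁆ * t := by rw [commutatorElement_def]; group
  have hB : b * t * b⁻¹ = ⁅b, t⁆ * t := by rw [commutatorElement_def]; group
  have hac : ∀ g : G, ⁅a, t⁆ * g = g * ⁅a, t⁆ := fun g => (mem_center_iff.1 ha g).symm
  have hbc : ∀ g : G, ⁅b, t⁆ * g = g * ⁅b, t⁆ := fun g => (mem_center_iff.1 hb g).symm
  have hA' : a⁻¹ * t * a = ⁅a, t⁆⁻¹ * t := by
    have : a * (⁅a, t⁆⁻¹ * t) * a⁻¹ = t := by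
      calc a * (⁅a, t⁆⁻¹ * t) * a⁻¹ = a * ⁅a, t⁆⁻¹ * a⁻¹ * (a * t * a⁻¹) := by group
        _ = a * ⁅a, t⁆⁻¹ * a⁻¹ * (⁅a, t⁆ * t) := by rw [hA]
        _ = a * ⁅a, t⁆⁻¹ * (a⁻¹ * ⁅a, t⁆) * t := by group
        _ = t := by rw [← hac a⁻¹]; group
    calc a⁻¹ * t * a = a⁻¹ * (a * (⁅a, t⁆⁻¹ * t) * a⁻¹) * a := by rw [this]
      _ = ⁅a, t⁆⁻¹ * t := by group
  have hB' : b⁻¹ * t * b = ⁅b, t⁆⁻¹ * t := by
    have : b * (⁅b, t⁆⁻¹ * t) * b⁻¹ = t := by
      calc b * (⁅b, t⁆⁻¹ * t) * b⁻¹ = b * ⁅b, t⁆⁻¹ * b⁻¹ * (b * t * b⁻¹) := by group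
        _ = b * ⁅b, t⁆⁻¹ * b⁻¹ * (⁅b, t⁆ * t) := by rw [hB]
        _ = b * ⁅b, t⁆⁻¹ * (b⁻¹ * ⁅b, t⁆) * t := by group
        _ = t := by rw [← hbc b⁻¹]; group
    calc b⁻¹ * t * b = b⁻¹ * (b * (⁅b, t⁆⁻¹ * t) * b⁻¹) * b := by rw [this]
      _ = ⁅b, t⁆⁻¹ * t := by group
  have hbi : ∀ g : G, ⁅b, t⁆⁻¹ * g = g * ⁅b, t⁆⁻¹ := fun g =>
    (mem_center_iff.1 (inv_mem hb) g).symm
  have hai : ∀ g : G, ⁅a, t⁆⁻¹ * g = g * ⁅a, t⁆⁻¹ := fun g =>
    (mem_center_iff.1 (inv_mem ha) g).symm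
  have h : ⁅a, b⁆⁻¹ * t * ⁅a, b⁆ = t := by
    calc ⁅a, b⁆⁻¹ * t * ⁅a, b⁆ = b * (a * (b⁻¹ * (a⁻¹ * t * a) * b) * a⁻¹) * b⁻¹ := by
          rw [commutatorElement_def a b]; group
      _ = b * (a * (b⁻¹ * ⁅a, t⁆⁻¹ * t * b) * a⁻¹) * b⁻¹ := by rw [hA']; group
      _ = b * (a * (⁅a, t⁆⁻¹ * (b⁻¹ * t * b)) * a⁻¹) * b⁻¹ := by rw [← hai b⁻¹]; group
      _ = b * (a * ⁅a, t⁆⁻¹ * ⁅b, t⁆⁻¹ * t * a⁻¹) * b⁻¹ := by rw [hB']; group
      _ = b * (⁅a, t⁆⁻¹ * ⁅b, t⁆⁻¹ * (a * t * a⁻¹)) * b⁻¹ := by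
          rw [← hai a, mul_assoc ⁅a, t⁆⁻¹ a, ← hbi a]; group
      _ = b * (⁅a, t⁆⁻¹ * ⁅b, t⁆⁻¹ * ⁅a, t⁆ * t) * b⁻¹ := by rw [hA]; group
      _ = b * (⁅b, t⁆⁻¹ * t) * b⁻¹ := by
          rw [mul_assoc ⁅a, t⁆⁻¹, ← hac ⁅b, t⁆⁻¹]; group
      _ = ⁅b, t⁆⁻¹ * (b * t * b⁻¹) := by rw [← mul_assoc b, ← hbi b]; group
      _ = t := by rw [hB]; group
  rw [mem_cen]
  calc ⁅a, b⁆ * t = ⁅a, b⁆ * (⁅a, b⁆⁻¹ * t * ⁅a, b⁆) := by rw [h]
    _ = t * ⁅a, b⁆ := by group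

/-- If each element of `H` times some power of `u` lies in `K`, where `u ^ n ∈ K`, then
`[H : H ∩ K] ≤ n`. -/
theorem relIndex_le_of_forall {H K : Subgroup G} {u : G} {n : ℕ} (hn : 0 < n) (hu : u ^ n ∈ K)
    (h : ∀ a ∈ H, ∃ i : ℕ, a * u ^ i ∈ K) : K.relIndex H ≤ n := by
  have hmod : ∀ a ∈ H, ∃ i : Fin n, a * u ^ (i : ℕ) ∈ K := by
    intro a ha
    obtain ⟨i, hi⟩ := h a ha
    refine ⟨⟨i % n, Nat.mod_lt _ hn⟩, ?_⟩
    have : a * u ^ (i % n) = a * u ^ i * ((u ^ n) ^ (i / n))⁻¹ := by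
      conv_rhs => rw [← Nat.mod_add_div i n, pow_add, pow_mul, Nat.mod_add_div i n]
      group
    rw [this]
    exact mul_mem hi (inv_mem (pow_mem hu _))
  choose f hf using hmod
  have hle : Nat.card (H ⧸ K.subgroupOf H) ≤ Nat.card (Fin n) := by
    refine Nat.card_le_card_of_injective
      (fun q => f ((q.out : H) : G)⁻¹ (inv_mem q.out.2)) ?_
    intro q q' hqq
    have h1 := hf _ (inv_mem q.out.2)
    have h2 := hf _ (inv_mem q'.out.2)
    simp only at hqq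
    rw [hqq] at h1
    rw [← q.out_eq', ← q'.out_eq', QuotientGroup.eq, mem_subgroupOf, Subgroup.coe_mul,
      Subgroup.coe_inv]
    have := mul_mem h1 (inv_mem h2)
    simpa [mul_assoc] using this
  rw [Nat.card_fin] at hle
  exact hle

theorem mul_inv_mem_of_mem_normalizer {C : Subgroup G} {g : G} (hg : g ∈ normalizer (C : Set G))
    {c : G} (hc : c ∈ C) : g * c * g⁻¹ ∈ C := (mem_normalizer_iff.1 hg c).1 hc

/-- The image of `v ↦ [u, v]` on `V`: a subgroup meeting the centre trivially. -/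
theorem exists_commImage {C : Subgroup G} {V : Subgroup G} {q r : ℕ}
    (hqr : q.Coprime r) (hV : ∀ v ∈ V, ∃ k, orderOf v = q ^ k) (hVc : IsMulCommutative V)
    (hCV : ∀ c ∈ C, ∀ v ∈ V, c * v = v * c)
    (hfree : ∀ g, g ∉ C → ∀ v ∈ V, g * v = v * g → v ∈ center G)
    (hne : ¬ V ≤ center G) {u : G} (hu : u ∉ C) (hur : u ^ r ∈ C)
    (huV : u ∈ normalizer (V : Set G)) :
    ∃ W : Subgroup G, (∀ w, w ∈ W ↔ ∃ v ∈ V, u * v * u⁻¹ * v⁻¹ = w) ∧ W ≤ V ∧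
      (∀ w ∈ W, w ∈ center G → w = 1) ∧ W ≠ ⊥ := by
  have hVcomm : ∀ a ∈ V, ∀ b ∈ V, a * b = b * a := fun a ha b hb =>
    congrArg Subtype.val (hVc.is_comm.comm ⟨a, ha⟩ ⟨b, hb⟩)
  let W : Subgroup G :=
    { carrier := {w | ∃ v ∈ V, u * v * u⁻¹ * v⁻¹ = w}
      one_mem' := ⟨1, one_mem V, by group⟩
      mul_mem' := by
        rintro _ _ ⟨v, hv, rfl⟩ ⟨v', hv', rfl⟩
        refine ⟨v * v', mul_mem hv hv', ?_⟩
        have h1 : u * v' * u⁻¹ * v'⁻¹ ∈ V :=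
          mul_mem (mul_inv_mem_of_mem_normalizer huV hv') (inv_mem hv')
        calc u * (v * v') * u⁻¹ * (v * v')⁻¹ = u * v * u⁻¹ * ((u * v' * u⁻¹ * v'⁻¹) * v⁻¹) := by group
          _ = u * v * u⁻¹ * (v⁻¹ * (u * v' * u⁻¹ * v'⁻¹)) := by rw [hVcomm _ h1 _ (inv_mem hv)]
          _ = _ := by group
      inv_mem' := by
        rintro _ ⟨v, hv, rfl⟩
        refine ⟨v⁻¹, inv_mem hv, ?_⟩
        calc u * v⁻¹ * u⁻¹ * v⁻¹⁻¹ = (u * v⁻¹ * u⁻¹) * v := by group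
          _ = v * (u * v⁻¹ * u⁻¹) := hVcomm _ (mul_inv_mem_of_mem_normalizer huV (inv_mem hv)) _ hv
          _ = (u * v * u⁻¹ * v⁻¹)⁻¹ := by group }
  have hWV : W ≤ V := by
    rintro _ ⟨v, hv, rfl⟩
    exact mul_mem (mul_inv_mem_of_mem_normalizer huV hv) (inv_mem hv)
  have hWcop : ∀ w ∈ W, w ∈ center G → w = 1 := by
    rintro _ ⟨v, hv, rfl⟩ hz
    have hc : ∀ n : ℕ, u ^ n * v * (u ^ n)⁻¹ = (u * v * u⁻¹ * v⁻¹) ^ n * v := by
      intro n
      induction n with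
      | zero => simp
      | succ n ih =>
        have hzu := (show Commute u (u * v * u⁻¹ * v⁻¹) from mem_center_iff.1 hz u).pow_right n
        calc u ^ (n + 1) * v * (u ^ (n + 1))⁻¹ = u * (u ^ n * v * (u ^ n)⁻¹) * u⁻¹ := by
              rw [pow_succ']; group
          _ = u * (u * v * u⁻¹ * v⁻¹) ^ n * v * u⁻¹ := by rw [ih]; simp only [mul_assoc]
          _ = (u * v * u⁻¹ * v⁻¹) ^ n * (u * v * u⁻¹) := by rw [hzu.eq]; simp only [mul_assoc]
          _ = (u * v * u⁻¹ * v⁻¹) ^ (n + 1) * v := by rw [pow_succ]; group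
    have h1 := hc r
    rw [hCV _ hur v hv, mul_inv_cancel_right] at h1
    have h2 : (u * v * u⁻¹ * v⁻¹) ^ r = 1 := mul_eq_right.1 h1.symm
    obtain ⟨k, hk⟩ := hV _ (mul_mem (mul_inv_mem_of_mem_normalizer huV hv) (inv_mem hv))
    rw [← orderOf_eq_one_iff]
    exact Nat.eq_one_of_dvd_coprimes (Nat.Coprime.pow_left k hqr) (hk ▸ dvd_rfl)
      (orderOf_dvd_of_pow_eq_one h2)
  refine ⟨W, fun w => Iff.rfl, hWV, hWcop, fun hb => ?_⟩
  refine hne fun v hv => hfree u hu v hv ?_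
  have : u * v * u⁻¹ * v⁻¹ ∈ W := ⟨v, hv, rfl⟩
  rw [hb, mem_bot] at this
  exact commutatorElement_eq_one_iff_mul_comm.1 this

open PLocal in
/-- The fixed-point-free pairing: two automorphisms of `C` acting on the `q`-elements `V` with no
common nontrivial fixed points are dependent modulo `C`. -/
theorem exists_mul_pow_mem {C : Subgroup G} {V : Subgroup G} {q r : ℕ} [hr : Fact r.Prime]
    (hqr : q.Coprime r) (hV : ∀ v ∈ V, ∃ k, orderOf v = q ^ k) (hVc : IsMulCommutative V)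
    (hCV : ∀ c ∈ C, ∀ v ∈ V, c * v = v * c)
    (hfree : ∀ g, g ∉ C → ∀ v ∈ V, g * v = v * g → v ∈ center G)
    (hne : ¬ V ≤ center G) {u t : G} (hu : u ∉ C) (hur : u ^ r ∈ C) (htr : t ^ r ∈ C)
    (hcomm : ⁅t, u⁆ ∈ C) (huV : u ∈ normalizer (V : Set G)) (htV : t ∈ normalizer (V : Set G)) :
    ∃ i : ℕ, t * u ^ i ∈ C := by
  classical
  have hVcomm : ∀ a ∈ V, ∀ b ∈ V, a * b = b * a := fun a ha b hb =>
    congrArg Subtype.val (hVc.is_comm.comm ⟨a, ha⟩ ⟨b, hb⟩)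
  obtain ⟨W, hW, hWV, hWcop, hWne⟩ := exists_commImage hqr hV hVc hCV hfree hne hu hur huV
  have hnorm : ∀ g : G, g ∈ normalizer (V : Set G) → ⁅g, u⁆ ∈ C → g ∈ normalizer (W : Set G) := by
    intro g hg hgu
    have key : ∀ w ∈ W, g * w * g⁻¹ ∈ W := by
      intro w hw
      rw [hW] at hw
      obtain ⟨v, hv, rfl⟩ := hw
      rw [hW]
      refine ⟨g * v * g⁻¹, mul_inv_mem_of_mem_normalizer hg hv, ?_⟩
      have hv' := mul_inv_mem_of_mem_normalizer hg hv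
      have h1 : g * u * g⁻¹ = ⁅g, u⁆ * u := by rw [commutatorElement_def]; group
      have h2 : ⁅g, u⁆ * (u * (g * v * g⁻¹) * u⁻¹) * ⁅g, u⁆⁻¹ = u * (g * v * g⁻¹) * u⁻¹ := by
        rw [hCV _ hgu _ (mul_inv_mem_of_mem_normalizer huV hv'), mul_inv_cancel_right]
      calc u * (g * v * g⁻¹) * u⁻¹ * (g * v * g⁻¹)⁻¹
          = ⁅g, u⁆ * (u * (g * v * g⁻¹) * u⁻¹) * ⁅g, u⁆⁻¹ * (g * v * g⁻¹)⁻¹ := by rw [h2]
        _ = (⁅g, u⁆ * u) * (g * v * g⁻¹) * (⁅g, u⁆ * u)⁻¹ * (g * v * g⁻¹)⁻¹ := by group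
        _ = (g * u * g⁻¹) * (g * v * g⁻¹) * (g * u * g⁻¹)⁻¹ * (g * v * g⁻¹)⁻¹ := by rw [h1]
        _ = g * (u * v * u⁻¹ * v⁻¹) * g⁻¹ := by group
    have hmap : W.map (MulAut.conj g).toMonoidHom = W :=
      eq_of_le_of_card_ge (by rintro _ ⟨w, hw, rfl⟩; exact key w hw)
        (card_map_of_injective (MulAut.conj g).injective).ge
    rw [mem_normalizer_iff]
    intro w
    refine ⟨key w, fun hw => ?_⟩
    rw [← hmap] at hw
    obtain ⟨w', hw', he⟩ := hw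
    rw [MulEquiv.coe_toMonoidHom, MulAut.conj_apply] at he
    exact (mul_left_cancel (mul_right_cancel he) : w' = w) ▸ hw'
  have huW : u ∈ normalizer (W : Set G) :=
    hnorm u huV (by rw [commutatorElement_self]; exact one_mem C)
  have htW := hnorm t htV hcomm
  haveI : Nontrivial W := (nontrivial_iff_ne_bot W).2 hWne
  letI : CommGroup W := { (inferInstance : Group W) with
    mul_comm := fun a b => Subtype.ext (hVcomm _ (hWV a.2) _ (hWV b.2)) }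
  have hcop : (Nat.card W).Coprime r := by
    refine Nat.Coprime.symm (hr.out.coprime_iff_not_dvd.2 fun hd => ?_)
    obtain ⟨w, hw⟩ := exists_prime_orderOf_dvd_card' r hd
    obtain ⟨k, hk⟩ := hV w (hWV w.2)
    have hw' : orderOf (w : G) = r := by rw [Subgroup.orderOf_coe]; exact hw
    exact hr.out.ne_one (Nat.eq_one_of_dvd_coprimes (Nat.Coprime.pow_left k hqr)
      (hk ▸ hw'.symm ▸ dvd_rfl) dvd_rfl)
  let φ : normalizer (W : Set G) →* MulAut W := W.normalizerMonoidHom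
  have hφ : ∀ (g : normalizer (W : Set G)) (w : W), φ g w = w ↔ (g : G) * w = w * g := by
    intro g w
    rw [Subtype.ext_iff]
    show (g : G) * w * (g : G)⁻¹ = w ↔ _
    exact mul_inv_eq_iff_eq_mul
  have hφC : ∀ g : normalizer (W : Set G), (g : G) ∈ C → φ g = 1 := fun g hg =>
    MulEquiv.ext fun w => (hφ g w).2 (hCV _ hg _ (hWV w.2))
  have hfix : ∀ (g : normalizer (W : Set G)) (w : W), w ≠ 1 → φ g w = w → (g : G) ∈ C := by
    intro g w hw hgw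
    by_contra hg
    exact hw (Subtype.ext (hWcop w w.2 (hfree _ hg _ (hWV w.2) ((hφ g w).1 hgw))))
  have hc1 : Commute (φ ⟨t, htW⟩) (φ ⟨u, huW⟩) := by
    rw [commute_iff_eq, ← commutatorElement_eq_one_iff_mul_comm, ← map_commutatorElement]
    exact hφC _ hcomm
  rcases exists_fixed_of_two (p := r) hcop (φ ⟨t, htW⟩) (φ ⟨u, huW⟩) hc1
    (by rw [← map_pow]; exact hφC _ htr) (by rw [← map_pow]; exact hφC _ hur) with
    ⟨w, hw, hwg⟩ | ⟨k, -, w, hw, hwg⟩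
  · exact absurd (hfix _ w hw hwg) hu
  · refine ⟨k, hfix (⟨t, htW⟩ * ⟨u, huW⟩ ^ k) w hw ?_⟩
    rw [map_mul, map_pow]
    exact hwg

/-- A `q`-element outside `C` cannot normalize `⟨u⟩C` for a fixed-point-free `u` of order `r`
modulo `C`. -/
theorem false_of_normalizing {C : Subgroup G} {V : Subgroup G} {q r : ℕ} [hq : Fact q.Prime]
    [hr : Fact r.Prime]
    (hqr : q.Coprime r) (hV : ∀ v ∈ V, ∃ k, orderOf v = q ^ k) (hVc : IsMulCommutative V)
    (hCV : ∀ c ∈ C, ∀ v ∈ V, c * v = v * c)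
    (hfree : ∀ g, g ∉ C → ∀ v ∈ V, g * v = v * g → v ∈ center G)
    (hne : ¬ V ≤ center G) {u b : G} (hu : u ∉ C) (hur : u ^ r ∈ C)
    (huV : u ∈ normalizer (V : Set G)) (hbV : b ∈ normalizer (V : Set G)) (hb : b ∉ C)
    (hbq : ∃ k, orderOf b = q ^ k) {i : ℕ} (hbu : b * u * b⁻¹ * u ^ i ∈ C) : False := by
  obtain ⟨W, hW, hWV, hWcop, hWne⟩ := exists_commImage hqr hV hVc hCV hfree hne hu hur huV
  have huV' : ∀ j : ℕ, u ^ j ∈ normalizer (V : Set G) := fun j => pow_mem huV j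
  have hpow : ∀ (j : ℕ), ∀ v ∈ V, u ^ j * v * (u ^ j)⁻¹ * v⁻¹ ∈ W := by
    intro j
    induction j with
    | zero => intro v _; simp
    | succ j ih =>
      intro v hv
      have hy := mul_inv_mem_of_mem_normalizer (huV' j) hv
      have h1 : u * (u ^ j * v * (u ^ j)⁻¹) * u⁻¹ * (u ^ j * v * (u ^ j)⁻¹)⁻¹ ∈ W :=
        (hW _).2 ⟨_, hy, rfl⟩
      have : u ^ (j + 1) * v * (u ^ (j + 1))⁻¹ * v⁻¹ =
          u * (u ^ j * v * (u ^ j)⁻¹) * u⁻¹ * (u ^ j * v * (u ^ j)⁻¹)⁻¹ *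
            (u ^ j * v * (u ^ j)⁻¹ * v⁻¹) := by rw [pow_succ']; group
      rw [this]
      exact mul_mem h1 (ih v hv)
  have key : ∀ w ∈ W, b * w * b⁻¹ ∈ W := by
    intro w hw
    obtain ⟨v, hv, rfl⟩ := (hW w).1 hw
    have hv' := mul_inv_mem_of_mem_normalizer hbV hv
    have hc : ∀ c ∈ C, ∀ y ∈ V, c * y * c⁻¹ = y := fun c hc y hy => by
      rw [hCV c hc y hy, mul_inv_cancel_right]
    obtain ⟨j, hj⟩ : ∃ j, i + j = r * i := ⟨(r - 1) * i, by
      obtain ⟨s, hs⟩ : ∃ s, r = s + 1 := ⟨r - 1, (Nat.succ_pred_eq_of_pos hr.out.pos).symm⟩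
      subst hs; rw [Nat.add_sub_cancel, Nat.succ_mul]; ring⟩
    have hC2 : (u ^ i * u ^ j)⁻¹ ∈ C := by
      rw [← pow_add, hj, pow_mul]; exact inv_mem (pow_mem hur i)
    have hact : ∀ y ∈ V, (b * u * b⁻¹) * y * (b * u * b⁻¹)⁻¹ = u ^ j * y * (u ^ j)⁻¹ := by
      intro y hy
      calc (b * u * b⁻¹) * y * (b * u * b⁻¹)⁻¹
          = (b * u * b⁻¹ * u ^ i) * (u ^ j * ((u ^ i * u ^ j)⁻¹ * y * (u ^ i * u ^ j)⁻¹⁻¹) *
              (u ^ j)⁻¹) * (b * u * b⁻¹ * u ^ i)⁻¹ := by group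
        _ = u ^ j * y * (u ^ j)⁻¹ := by
            rw [hc _ hC2 y hy, hc _ hbu _ (mul_inv_mem_of_mem_normalizer (huV' j) hy)]
    rw [show b * (u * v * u⁻¹ * v⁻¹) * b⁻¹
        = (b * u * b⁻¹) * (b * v * b⁻¹) * (b * u * b⁻¹)⁻¹ * (b * v * b⁻¹)⁻¹ by group, hact _ hv']
    exact hpow j _ hv'
  have hmap : W.map (MulAut.conj b).toMonoidHom = W :=
    eq_of_le_of_card_ge (by rintro _ ⟨w, hw, rfl⟩; exact key w hw)
      (card_map_of_injective (MulAut.conj b).injective).ge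
  have hbW : b ∈ normalizer (W : Set G) := by
    rw [mem_normalizer_iff]
    intro w
    refine ⟨key w, fun hw => ?_⟩
    rw [← hmap] at hw
    obtain ⟨w', hw', he⟩ := hw
    rw [MulEquiv.coe_toMonoidHom, MulAut.conj_apply] at he
    exact (mul_left_cancel (mul_right_cancel he) : w' = w) ▸ hw'
  have hWq : IsPGroup q W := IsPGroup.iff_orderOf.2 fun w => by
    obtain ⟨k, hk⟩ := hV w (hWV w.2)
    exact ⟨k, by rw [← Subgroup.orderOf_coe]; exact hk⟩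
  have hS : IsPGroup q (zpowers b ⊔ W : Subgroup G) :=
    (isPGroup_zpowers' hbq).to_sup_of_normal_right' hWq (zpowers_le.2 hbW)
  have hnorm : (zpowers b ⊔ W : Subgroup G) ≤ normalizer (W : Set G) :=
    sup_le (zpowers_le.2 hbW) le_normalizer
  have hWnle : ¬ W ≤ center G := fun hle =>
    hWne ((eq_bot_iff_forall W).2 fun w hw => hWcop w hw (hle hw))
  obtain ⟨y, hy, hy', -, hyc⟩ := exists_nearly_central (p := q) hS le_sup_right
    (fun s hs z hz => mul_inv_mem_of_mem_normalizer (hnorm hs) hz) hWnle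
  have h1 : ⁅b, y⁆ = 1 := by
    refine hWcop _ ?_ (hyc b (mem_sup_left (mem_zpowers b)))
    rw [commutatorElement_def]
    exact mul_mem (mul_inv_mem_of_mem_normalizer hbW hy) (inv_mem hy)
  exact hy' (hfree b hb y (hWV hy) (commutatorElement_eq_one_iff_mul_comm.1 h1))

end Cfsg.Agent.Lib.TwoClassSizes
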