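import Mathlib
import Cfsg.Agent.Lib.TwoClassSizes.Tools
import Cfsg.Agent.Lib.Elem70.Basic
import Cfsg.Agent.Lib.SylowNumbers.Basic

/-!
# A normal subgroup with two `G`-class sizes containing a noncentral Sylow subgroup is nilpotent
-/

set_option autoImplicit false

namespace Cfsg.Agent.Lib.TwoClassSizes

open Subgroup
open scoped commutatorElement

variable {G : Type*} [Group G] [Finite G]

omit [Finite G] in
theorem card_inf_cen_conj (S : Subgroup G) (g w : G) :
    Nat.card (S.map (MulAut.conj g).toMonoidHom ⊓ cen w : Subgroup G) =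
      Nat.card (S ⊓ cen (g⁻¹ * w * g) : Subgroup G) := by
  have hset : S.map (MulAut.conj g).toMonoidHom ⊓ cen w =
      (S ⊓ cen (g⁻¹ * w * g)).map (MulAut.conj g).toMonoidHom := by
    ext y
    constructor
    · rintro ⟨⟨z, hz, rfl⟩, hy⟩
      refine ⟨z, ⟨hz, ?_⟩, rfl⟩
      show z ∈ cen (g⁻¹ * w * g)
      rw [← conj_mem_cen_iff (g := g), show g * (g⁻¹ * w * g) * g⁻¹ = w by group]
      exact hy
    · rintro ⟨z, ⟨hz, hzw⟩, rfl⟩
      refine ⟨⟨z, hz, rfl⟩, ?_⟩
      have := (conj_mem_cen_iff (g := g)).2 hzw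
      rwa [show g * (g⁻¹ * w * g) * g⁻¹ = w by group] at this
  rw [hset, card_map_of_injective (MulAut.conj g).injective]

/-- Every noncentral element of `N` has class size `m`. -/
def HasIndex (N : Subgroup G) (m : ℕ) : Prop :=
  ∀ x ∈ N, x ∉ center G → (cen x).index = m

variable {N : Subgroup G} {m : ℕ} (h : HasIndex N m)
include h

theorem card_cen_eq {x y : G} (hx : x ∈ N) (hx' : x ∉ center G) (hy : y ∈ N) (hy' : y ∉ center G) :
    Nat.card (cen x) = Nat.card (cen y) := by
  have h1 := card_mul_index (cen x)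
  rw [← card_mul_index (cen y), h x hx hx', h y hy hy'] at h1
  exact Nat.eq_of_mul_eq_mul_right
    (h x hx hx' ▸ Nat.pos_of_ne_zero Subgroup.index_ne_zero_of_finite) h1

theorem cen_eq_of_le {x y : G} (hx : x ∈ N) (hx' : x ∉ center G) (hy : y ∈ N) (hy' : y ∉ center G)
    (hle : cen x ≤ cen y) : cen x = cen y :=
  eq_of_le_of_card_ge hle (card_cen_eq h hy hy' hx hx').le

theorem cen_le_of_coprime {x y : G} (hx : x ∈ N) (hx' : x ∉ center G) (hy : y ∈ N)
    (hxy : Commute x y) (hcop : (orderOf x).Coprime (orderOf y)) : cen x ≤ cen y := by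
  have h1 := cen_mul_le hxy hcop
  have h2 : x * y ∉ center G := by
    intro hc
    refine hx' (mem_center_iff.2 fun g => ?_)
    exact mem_cen.1 (h1 (mem_cen.2 (mem_center_iff.1 hc g))).1
  rw [← cen_eq_of_le h (mul_mem hx hy) h2 hx hx' (h1.trans inf_le_left)]
  exact h1.trans inf_le_right

section

variable {r : ℕ} [hr : Fact r.Prime] (hsyl : ∀ R : Sylow r G, (R : Subgroup G) ≤ N)
  (hR : ∀ R : Sylow r G, ¬ (R : Subgroup G) ≤ center G)
include hsyl hR

/-- A Sylow `r`-subgroup of a centralizer contains a noncentral element of `N`. -/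
theorem inf_not_le_center {x : G} (hx : x ∈ N) (hx' : x ∉ center G) (R : Sylow r G)
    (hRx : Nat.card ((R : Subgroup G) ⊓ cen x : Subgroup G)
      = r ^ (Nat.card (cen x)).factorization r) :
    ∃ u ∈ (R : Subgroup G) ⊓ cen x, u ∉ center G := by
  by_contra hcon
  push Not at hcon
  obtain ⟨v, hv, hv'⟩ := Set.not_subset.1 (hR R)
  have hle : (R : Subgroup G) ⊓ cen x ≤ (R : Subgroup G) ⊓ center G := fun u hu => ⟨hu.1, hcon u hu⟩
  have hlt : (R : Subgroup G) ⊓ center G < (R : Subgroup G) ⊓ cen v := by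
    refine lt_of_le_of_ne (fun u hu => ⟨hu.1, mem_cen.2 (mem_center_iff.1 hu.2 v).symm⟩) fun he => hv' ?_
    have : v ∈ (R : Subgroup G) ⊓ center G := he ▸ ⟨hv, mem_cen.2 rfl⟩
    exact this.2
  have h1 : Nat.card ((R : Subgroup G) ⊓ cen v : Subgroup G) ≤
      r ^ (Nat.card (cen v)).factorization r := card_le_ordProj (R.2.to_le inf_le_left) inf_le_right
  rw [card_cen_eq h (hsyl R hv) hv' hx hx', ← hRx] at h1
  exact hlt.ne (eq_of_le_of_card_ge hlt.le (h1.trans (card_le_of_le hle)))

theorem exists_r_mem_cen {x : G} (hx : x ∈ N) (hx' : x ∉ center G) :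
    ∃ u ∈ N, u ∈ cen x ∧ u ∉ center G ∧ ∃ k, orderOf u = r ^ k := by
  obtain ⟨R, -, hRx⟩ := exists_sylow_inf (p := r) (cen x) IsPGroup.of_bot bot_le
  obtain ⟨u, hu, hu'⟩ := inf_not_le_center h hsyl hR hx hx' R hRx
  exact ⟨u, hsyl R hu.1, hu.2, hu', exists_orderOf_eq_pow R.2 hu.1⟩

/-- The centralizer in `N` of a noncentral `q`-element, `q ≠ r`, is abelian. -/
theorem cen_le_cen {q : ℕ} (hq : q.Prime) (hqr : q ≠ r) {x : G} (hx : x ∈ N) (hx' : x ∉ center G)
    (hxq : ∃ k, orderOf x = q ^ k) {a : G} (ha : a ∈ N) (hax : a ∈ cen x) : cen x ≤ cen a := by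
  obtain ⟨u, huN, hux, hu', ⟨j, hj⟩⟩ := exists_r_mem_cen h hsyl hR hx hx'
  obtain ⟨k, hk⟩ := hxq
  have hcop : (orderOf x).Coprime (orderOf u) := hk ▸ hj ▸ coprime_of_prime_pow hq hr.out hqr
  have hxu : cen x = cen u := cen_eq_of_le h hx hx' huN hu'
    (cen_le_of_coprime h hx hx' huN (mem_cen'.1 hux).symm hcop)
  intro g hg
  rw [mem_cen]
  have : a ∈ cen g ⊓ N := by
    refine mem_of_primary_parts fun p hp b hb ⟨i, hi⟩ => ?_
    have hbN : b ∈ N := zpowers_le.2 ha hb
    refine ⟨?_, hbN⟩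
    have hbx : b ∈ cen x := zpowers_le.2 hax hb
    suffices hle : cen x ≤ cen b from mem_cen.2 (mem_cen.1 (hle hg)).symm
    by_cases hpq : p = q
    · subst hpq
      have hbu : b ∈ cen u := hxu ▸ hbx
      rw [hxu]
      exact cen_le_of_coprime h huN hu' hbN (mem_cen'.1 hbu).symm
        (hj ▸ hi ▸ coprime_of_prime_pow hr.out hp hqr.symm)
    · exact cen_le_of_coprime h hx hx' hbN (mem_cen'.1 hbx).symm
        (hk ▸ hi ▸ coprime_of_prime_pow hq hp (Ne.symm hpq))
  exact (mem_cen.1 this.1).symm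

theorem cen_eq_cen {q : ℕ} (hq : q.Prime) (hqr : q ≠ r) {x : G} (hx : x ∈ N) (hx' : x ∉ center G)
    (hxq : ∃ k, orderOf x = q ^ k) {a : G} (ha : a ∈ N) (hax : a ∈ cen x) (ha' : a ∉ center G) :
    cen a = cen x :=
  (cen_eq_of_le h hx hx' ha ha' (cen_le_cen h hsyl hR hq hqr hx hx' hxq ha hax)).symm

theorem mem_normalizer_cen {q : ℕ} (hq : q.Prime) (hqr : q ≠ r) {x : G} (hx : x ∈ N)
    (hx' : x ∉ center G) (hxq : ∃ k, orderOf x = q ^ k) [hN : N.Normal] {a g : G} (ha : a ∈ N)
    (hax : a ∈ cen x) (ha' : a ∉ center G) (hg : g * a * g⁻¹ ∈ cen x) :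
    g ∈ normalizer (cen x : Set G) := by
  have h1 := cen_eq_cen h hsyl hR hq hqr hx hx' hxq ha hax ha'
  have h2 := cen_eq_cen h hsyl hR hq hqr hx hx' hxq (hN.conj_mem a ha g) hg
    (fun hc => ha' (mem_center_of_conj hc))
  rw [mem_normalizer_iff]
  intro c
  conv_rhs => rw [← h2, conj_mem_cen_iff, h1]

omit h hsyl hR in
/-- Frattini argument for a Sylow subgroup of `G` intersected with `N`. -/
theorem exists_mul_mem_normalizer [hN : N.Normal] {p : ℕ} [hp : Fact p.Prime] (S : Sylow p G) (g : G) :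
    ∃ n ∈ N, n * g ∈ normalizer (((S : Subgroup G) ⊓ N : Subgroup G) : Set G) := by
  have htop := Sylow.normalizer_sup_eq_top (SylowNumbers.Basic.sylowInf S N)
  rw [SylowNumbers.Basic.coe_sylowInf, subgroupOf_map_subtype] at htop
  have : g⁻¹ ∈ normalizer (((S : Subgroup G) ⊓ N : Subgroup G) : Set G) ⊔ N := htop ▸ mem_top _
  obtain ⟨a, ha, b, hb, hab⟩ := mem_sup_of_normal_right.1 this
  refine ⟨b, hb, ?_⟩
  have hg : b * g = a⁻¹ := by rw [← inv_inv g, ← hab, mul_inv_rev, mul_inv_cancel_left]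
  rw [hg]
  exact inv_mem ha

omit h hsyl hR in
/-- Jordan: `N` lies in `C` as soon as each of its elements is `N`-conjugate into `C`. -/
theorem le_of_forall_conj {C : Subgroup G} (hcov : ∀ w ∈ N, ∃ n ∈ N, n * w * n⁻¹ ∈ C) :
    N ≤ C :=
  subgroupOf_eq_top.1 <| Elem70.eq_top_of_forall_conj (C.subgroupOf N) fun w => by
    obtain ⟨n, hn, hw⟩ := hcov w w.2
    exact ⟨⟨n⁻¹, inv_mem hn⟩, by simpa [mem_subgroupOf, mul_assoc] using hw⟩

/-- `N` lies in `cen x` as soon as each of its noncentral elements commutes with a noncentral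
element of a conjugate of a Sylow subgroup of `N` centralizing `x`. -/
theorem le_cen_of_cover {q : ℕ} (hq : q.Prime) (hqr : q ≠ r) {x : G} (hx : x ∈ N)
    (hx' : x ∉ center G) (hxq : ∃ k, orderOf x = q ^ k) [hN : N.Normal] {p : ℕ} [hp : Fact p.Prime]
    (S : Sylow p G) (hQ : (S : Subgroup G) ⊓ N ≤ cen x)
    (hcov : ∀ w ∈ N, w ∉ center G → ∃ g : G, ∃ y ∈ (S : Subgroup G) ⊓ N,
      y ∉ center G ∧ g * y * g⁻¹ ∈ cen w) : N ≤ cen x := by
  refine le_of_forall_conj fun w hw => ?_
  by_cases hw' : w ∈ center G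
  · exact ⟨1, one_mem N, by simpa using mem_cen.2 (mem_center_iff.1 hw' x).symm⟩
  obtain ⟨g, y, hy, hy', hgy⟩ := hcov w hw hw'
  have hyx := hQ hy
  have hxy := cen_eq_cen h hsyl hR hq hqr hx hx' hxq hy.2 hyx hy'
  have hwg : g⁻¹ * w * g ∈ cen x := by
    rw [← hxy, ← mem_cen_conj]
    exact mem_cen.2 (mem_cen.1 hgy).symm
  obtain ⟨n, hn, hng⟩ := exists_mul_mem_normalizer (N := N) S g
  have hnC : n * g ∈ normalizer (cen x : Set G) :=
    mem_normalizer_cen h hsyl hR hq hqr hx hx' hxq hy.2 hyx hy'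
      (hQ ((mem_normalizer_iff.1 hng y).1 hy))
  refine ⟨n, hn, ?_⟩
  have := (mem_normalizer_iff.1 hnC _).1 hwg
  rwa [show n * g * (g⁻¹ * w * g) * (n * g)⁻¹ = n * w * n⁻¹ by group] at this

theorem isNilpotent_of_le_cen {q : ℕ} (hq : q.Prime) (hqr : q ≠ r) {x : G} (hx : x ∈ N)
    (hx' : x ∉ center G) (hxq : ∃ k, orderOf x = q ^ k) (hle : N ≤ cen x) :
    Group.IsNilpotent N := by
  haveI : IsMulCommutative N := ⟨⟨fun a b => Subtype.ext
    (mem_cen.1 ((cen_le_cen h hsyl hR hq hqr hx hx' hxq b.2 (hle b.2)) (hle a.2)))⟩⟩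
  haveI : center N = ⊤ := eq_top_iff.2 fun a _ => mem_center_iff.2 fun b =>
    (IsMulCommutative.is_comm.comm b a)
  exact ⟨1, by rw [Subgroup.upperCentralSeries_one]; exact this⟩

/-- No noncentral element of prime power order `q ^ k`, `q ≠ r`, when `r` divides `m`; unless `N` is abelian. -/
theorem false_of_dvd {q : ℕ} (hq : q.Prime) (hqr : q ≠ r) {x₀ : G} (hx₀ : x₀ ∈ N)
    (hx₀' : x₀ ∉ center G) (hx₀q : ∃ k, orderOf x₀ = q ^ k) [hN : N.Normal] (hrm : r ∣ m) :
    False := by
  haveI := Fact.mk hq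
  have hnle : ∀ {y : G}, y ∈ N → y ∉ center G → ∀ R : Sylow r G, ¬ (R : Subgroup G) ≤ cen y :=
    fun {y} hy hy' R hle => SylowNumbers.Basic.index_dvd_not hle ((h y hy hy').symm ▸ hrm)
  -- `q` divides `m` as well
  have hqm : q ∣ m := by
    by_contra hqm
    obtain ⟨S, hS⟩ := SylowNumbers.Basic.exists_sylow_le (p := q) (cen x₀)
      (by rw [h x₀ hx₀ hx₀']; exact hqm)
    have hxS : x₀ ∈ (S : Subgroup G) := by
      refine SylowNumbers.Basic.mem_sylow_of_mem_normalizer (isPGroup_zpowers' hx₀q) S ?_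
      rw [mem_normalizer_iff]
      intro c
      constructor
      · intro hc; rwa [← mem_cen.1 (hS hc), mul_inv_cancel_right]
      · intro hc
        have h1 := mem_cen.1 (hS hc)
        have : x₀ * c * x₀⁻¹ = c := by
          calc x₀ * c * x₀⁻¹ = x₀⁻¹ * (x₀ * (x₀ * c * x₀⁻¹)) := by group
            _ = x₀⁻¹ * (x₀ * c * x₀⁻¹ * x₀) := by rw [h1]
            _ = c := by group
        rwa [this] at hc
    have hQ : (S : Subgroup G) ⊓ N ≤ cen x₀ := inf_le_left.trans hS
    have hle := le_cen_of_cover h hsyl hR hq hqr hx₀ hx₀' hx₀q S hQ fun w hw hw' => by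
      obtain ⟨S', hS'⟩ := SylowNumbers.Basic.exists_sylow_le (p := q) (cen w)
        (by rw [h w hw hw']; exact hqm)
      obtain ⟨g, rfl⟩ := MulAction.exists_smul_eq G S S'
      exact ⟨g, x₀, ⟨hxS, hx₀⟩, hx₀', hS' ⟨x₀, hxS, rfl⟩⟩
    obtain ⟨R⟩ : Nonempty (Sylow r G) := inferInstance
    exact hnle hx₀ hx₀' R ((hsyl R).trans hle)
  -- choose `x` nearly central in a Sylow `q`-subgroup
  obtain ⟨S, hS⟩ := (isPGroup_zpowers' hx₀q).exists_le_sylow
  obtain ⟨x, hxSN, hx', hxpow, hxS⟩ := exists_nearly_central (p := q) (S := (S : Subgroup G))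
    (M := (S : Subgroup G) ⊓ N) S.2 inf_le_left
    (fun s hs y hy => ⟨mul_mem (mul_mem hs hy.1) ((S : Subgroup G).inv_mem hs), hN.conj_mem y hy.2 s⟩)
    (fun hle => hx₀' (hle ⟨hS (mem_zpowers x₀), hx₀⟩))
  have hx : x ∈ N := hxSN.2
  have hxq : ∃ k, orderOf x = q ^ k := exists_orderOf_eq_pow S.2 hxSN.1
  set C := cen x with hC
  have hab : ∀ a ∈ N, a ∈ C → ∀ c ∈ C, c * a = a * c := fun a ha hac c hc =>
    mem_cen.1 (cen_le_cen h hsyl hR hq hqr hx hx' hxq ha hac hc)
  have hcell : ∀ a ∈ N, a ∈ C → a ∉ center G → cen a = C := fun a ha hac ha' =>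
    cen_eq_cen h hsyl hR hq hqr hx hx' hxq ha hac ha'
  have hfree : ∀ g, g ∉ C → ∀ a ∈ N, a ∈ C → g * a = a * g → a ∈ center G := by
    intro g hg a ha hac hga
    by_contra ha'
    exact hg (hcell a ha hac ha' ▸ mem_cen.2 hga)
  have hSC : ∀ s ∈ (S : Subgroup G), s ∈ normalizer (C : Set G) := by
    intro s hs
    refine mem_normalizer_cen h hsyl hR hq hqr hx hx' hxq hx (mem_cen.2 rfl) hx' ?_
    rw [show s * x * s⁻¹ = ⁅s, x⁆ * x by rw [commutatorElement_def]; group]
    exact mul_mem (mem_cen.2 (mem_center_iff.1 (hxS s hs) x).symm) (mem_cen.2 rfl)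
  obtain ⟨b, hbS, hbC⟩ : ∃ b ∈ (S : Subgroup G), b ∉ C := by
    by_contra hcon
    push Not at hcon
    exact SylowNumbers.Basic.index_dvd_not (P := S) hcon ((h x hx hx').symm ▸ hqm)
  -- the `q`-part `V` of the abelian cell
  let V : Subgroup G :=
    { carrier := {a | a ∈ N ∧ a ∈ C ∧ ∃ k, a ^ q ^ k = 1}
      one_mem' := ⟨one_mem N, one_mem C, 0, by simp⟩
      mul_mem' := by
        rintro u v ⟨huN, huC, i, hi⟩ ⟨hvN, hvC, j, hj⟩
        refine ⟨mul_mem huN hvN, mul_mem huC hvC, i + j, ?_⟩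
        rw [(show Commute u v from hab v hvN hvC u huC).mul_pow, pow_add, pow_mul u, hi, one_pow,
          mul_comm (q ^ i), pow_mul, hj, one_pow, one_mul]
      inv_mem' := by
        rintro u ⟨huN, huC, i, hi⟩
        exact ⟨inv_mem huN, inv_mem huC, i, by rw [inv_pow, hi, inv_one]⟩ }
  have hVq : ∀ v ∈ V, ∃ k, orderOf v = q ^ k := by
    rintro v ⟨-, -, k, hk⟩
    obtain ⟨j, -, hj⟩ := (Nat.dvd_prime_pow hq).1 (orderOf_dvd_of_pow_eq_one hk)
    exact ⟨j, hj⟩
  have hVc : IsMulCommutative V := ⟨⟨fun a b => Subtype.ext (hab b b.2.1 b.2.2.1 a a.2.2.1)⟩⟩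
  have hCV : ∀ c ∈ C, ∀ v ∈ V, c * v = v * c := fun c hc v hv => hab v hv.1 hv.2.1 c hc
  have hVfree : ∀ g, g ∉ C → ∀ v ∈ V, g * v = v * g → v ∈ center G := fun g hg v hv =>
    hfree g hg v hv.1 hv.2.1
  have hxV : x ∈ V := by
    obtain ⟨k, hk⟩ := hxq
    exact ⟨hx, mem_cen.2 rfl, k, hk ▸ pow_orderOf_eq_one x⟩
  have hVne : ¬ V ≤ center G := fun hle => hx' (hle hxV)
  have hCVn : ∀ g ∈ normalizer (C : Set G), g ∈ normalizer (V : Set G) := by
    have key : ∀ g ∈ normalizer (C : Set G), ∀ v ∈ V, g * v * g⁻¹ ∈ V := by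
      rintro g hg v ⟨hvN, hvC, k, hk⟩
      exact ⟨hN.conj_mem v hvN g, (mem_normalizer_iff.1 hg v).1 hvC, k, by
        rw [conj_pow, hk, mul_one, mul_inv_cancel]⟩
    intro g hg
    rw [mem_normalizer_iff]
    refine fun v => ⟨key g hg v, fun hv => ?_⟩
    simpa [mul_assoc] using key g⁻¹ (inv_mem hg) _ hv
  -- a Sylow `r`-subgroup meeting `C` in a Sylow subgroup
  obtain ⟨R, -, hRC⟩ := exists_sylow_inf (p := r) C IsPGroup.of_bot bot_le
  set T := (R : Subgroup G) ⊓ C with hT
  obtain ⟨t₀, ht₀, ht₀'⟩ := inf_not_le_center h hsyl hR hx hx' R hRC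
  have hTN : T ≤ N := inf_le_left.trans (hsyl R)
  have hTnle : ¬ T ≤ center G := fun hle => ht₀' (hle ht₀)
  have hqr' : q.Coprime r := (Nat.coprime_primes hq hr.out).2 hqr
  have hmemC : ∀ g : G, ∀ a ∈ T, a ∉ center G → ⁅g, a⁆ ∈ center G →
      g ∈ normalizer (C : Set G) := by
    intro g a ha ha' hga
    refine mem_normalizer_cen h hsyl hR hq hqr hx hx' hxq (hTN ha) ha.2 ha' ?_
    rw [show g * a * g⁻¹ = ⁅g, a⁆ * a by rw [commutatorElement_def]; group]
    exact mul_mem (mem_cen.2 (mem_center_iff.1 hga x).symm) ha.2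
  have hindex : (center G).relIndex T ≤ r ∧
      ∃ ρ ∈ (R : Subgroup G), ρ ∈ normalizer (C : Set G) ∧ ρ ∉ C := by
    by_cases hRN : ∀ s ∈ (R : Subgroup G), s ∈ normalizer (C : Set G)
    · -- `T` is normal in `R`
      obtain ⟨u, huT, hu', hur, huR⟩ := exists_nearly_central (p := r) (S := (R : Subgroup G))
        (M := T) R.2 inf_le_left
        (fun s hs y hy => ⟨mul_mem (mul_mem hs hy.1) ((R : Subgroup G).inv_mem hs),
          (mem_normalizer_iff.1 (hRN s hs) y).1 hy.2⟩) hTnle
      have hCu := hcell u (hTN huT) huT.2 hu'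
      obtain ⟨b₀, hb₀, hb₀C⟩ := Set.not_subset.1 (hnle hx hx' R)
      have hpow : ∀ s ∈ (R : Subgroup G), s ^ r ∈ C := fun s hs =>
        hCu ▸ pow_mem_cen (huR s hs) hur
      have hRidx : C.relIndex R ≤ r := by
        refine relIndex_le_of_forall hr.out.pos (hpow b₀ hb₀) fun a ha => ?_
        exact exists_mul_pow_mem hqr' hVq hVc hCV hVfree hVne
          hb₀C (hpow b₀ hb₀) (hpow a ha) (hCu ▸ commutator_mem_cen (huR a ha) (huR b₀ hb₀))
          (hCVn _ (hRN b₀ hb₀)) (hCVn _ (hRN a ha))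
      refine ⟨?_, b₀, hb₀, hRN b₀ hb₀, hb₀C⟩
      by_cases hex : ∃ w ∈ N, w ∉ center G ∧ w ∉ C ∧
          Nat.card ((R : Subgroup G) ⊓ cen w : Subgroup G) = Nat.card T
      · obtain ⟨w, hw, hw', hwC, hcard⟩ := hex
        set T' := (R : Subgroup G) ⊓ cen w with hT'
        have heq : T'.relIndex T = (center G).relIndex T := by
          have : T' ⊓ T = center G ⊓ T := by
            ext a
            constructor
            · rintro ⟨ha1, ha2⟩
              refine ⟨?_, ha2⟩
              by_contra ha'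
              refine hwC ?_
              rw [← hcell a (hTN ha2) ha2.2 ha', mem_cen]
              exact (mem_cen.1 ha1.2).symm
            · rintro ⟨ha1, ha2⟩
              exact ⟨⟨ha2.1, mem_cen.2 (mem_center_iff.1 ha1 w).symm⟩, ha2⟩
          rw [← inf_relIndex_right T' T, this, inf_relIndex_right]
        have h1 : T'.relIndex R = C.relIndex R := by
          have e1 : Nat.card T' * T'.relIndex R = Nat.card (R : Subgroup G) := by
            have := card_mul_index (T'.subgroupOf (R : Subgroup G))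
            rwa [Nat.card_congr (subgroupOfEquivOfLe (inf_le_left : T' ≤ (R : Subgroup G))).toEquiv]
              at this
          have e2 : Nat.card T * C.relIndex R = Nat.card (R : Subgroup G) := by
            have := card_mul_index (T.subgroupOf (R : Subgroup G))
            rw [Nat.card_congr (subgroupOfEquivOfLe (inf_le_left : T ≤ (R : Subgroup G))).toEquiv]
              at this
            change Nat.card T * T.relIndex R = _ at this
            rw [← inf_relIndex_right C, inf_comm]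
            exact this
          rw [hcard] at e1
          exact Nat.eq_of_mul_eq_mul_left Nat.card_pos (e1.trans e2.symm)
        calc (center G).relIndex T = T'.relIndex T := heq.symm
          _ ≤ T'.relIndex R := relIndex_le_of_le_right inf_le_left Subgroup.index_ne_zero_of_finite
          _ ≤ r := h1 ▸ hRidx
      · -- all cells are conjugate, so `N` is abelian
        exfalso
        have hwC : ∀ w ∈ N, w ∉ center G →
            Nat.card ((R : Subgroup G) ⊓ cen w : Subgroup G) = Nat.card T → w ∈ C :=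
          fun w hw hw' hc => by_contra fun hwC => hex ⟨w, hw, hw', hwC, hc⟩
        have hcard : ∀ (g w : G), w ∈ N → w ∉ center G →
            Nat.card (((g • R : Sylow r G) : Subgroup G) ⊓ cen w : Subgroup G) = Nat.card T →
            g⁻¹ * w * g ∈ C := by
          intro g w hw hw' hc
          refine hwC _ (by simpa using hN.conj_mem w hw g⁻¹) (fun hz => hw' ?_) ?_
          · simpa [mul_assoc] using conj_mem_center (g := g) hz
          · rw [← hc]
            exact (card_inf_cen_conj (R : Subgroup G) g w).symm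
        have hle : N ≤ C := le_of_forall_conj fun w hw => by
          by_cases hw' : w ∈ center G
          · exact ⟨1, one_mem N, by simpa using mem_cen.2 (mem_center_iff.1 hw' x).symm⟩
          obtain ⟨R', -, hR'⟩ := exists_sylow_inf (p := r) (cen w) IsPGroup.of_bot bot_le
          obtain ⟨g, rfl⟩ := MulAction.exists_smul_eq G R R'
          have hgw : g⁻¹ * w * g ∈ C := hcard g w hw hw' (by
            rw [hR', hRC, card_cen_eq h hw hw' hx hx'])
          obtain ⟨n, hn, hng⟩ := exists_mul_mem_normalizer (N := N) R g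
          rw [inf_eq_left.2 (hsyl R)] at hng
          have hnC : n * g ∈ normalizer (C : Set G) := by
            refine mem_normalizer_cen h hsyl hR hq hqr hx hx' hxq hx (mem_cen.2 rfl) hx' ?_
            have hsm : (n * g) • R = R := by
              rw [Sylow.smul_eq_iff_mem_normalizer]
              exact hng
            have := hcard (1 : G) (n * g * x * (n * g)⁻¹) (hN.conj_mem x hx _)
              (fun hz => hx' (mem_center_of_conj hz)) ?_
            · simpa using this
            · have hRmap : (R : Subgroup G).map (MulAut.conj (n * g)).toMonoidHom = R :=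
                congrArg (fun P : Sylow r G => (P : Subgroup G)) hsm
              have hcc := card_inf_cen_conj (R : Subgroup G) (n * g) (n * g * x * (n * g)⁻¹)
              rw [hRmap, show (n * g)⁻¹ * (n * g * x * (n * g)⁻¹) * (n * g) = x by group] at hcc
              rw [one_smul]
              exact hcc
          refine ⟨n, hn, ?_⟩
          have := (mem_normalizer_iff.1 hnC _).1 hgw
          rwa [show n * g * (g⁻¹ * w * g) * (n * g)⁻¹ = n * w * n⁻¹ by group] at this
        exact hnle hx hx' R ((hsyl R).trans hle)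
    · -- `R` does not normalize `C`
      obtain ⟨u, huR, hu', hur, hucomm⟩ := exists_nearly_central (p := r)
        (S := (R : Subgroup G)) (M := (R : Subgroup G)) R.2 le_rfl
        (fun s hs y hy => mul_mem (mul_mem hs hy) (inv_mem hs)) (hR R)
      have huN : u ∈ normalizer (C : Set G) := by
        refine hmemC u t₀ ht₀ ht₀' ?_
        have := inv_mem (hucomm t₀ ht₀.1)
        rwa [commutatorElement_inv] at this
      have huC : u ∉ C := fun huC => hRN fun s hs =>
        hmemC s u ⟨huR, huC⟩ hu' (hucomm s hs)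
      refine ⟨?_, u, huR, huN, huC⟩
      have hTel : ∀ t ∈ T, t ^ r ∈ center G := by
        intro t ht
        by_contra hc
        refine huC ?_
        rw [← hcell _ (pow_mem (hTN ht) r) (pow_mem ht.2 r) hc, mem_cen]
        exact (mem_cen.1 (pow_mem_cen (hucomm t ht.1) hur)).symm
      -- a conjugate of `T` inside `R ⊓ N(C)`
      set R₁ := (R : Subgroup G) ⊓ normalizer (C : Set G) with hR₁
      obtain ⟨g, hgR, hgN, hgC⟩ : ∃ g ∈ (R : Subgroup G),
          g ∈ normalizer (R₁ : Set G) ∧ g ∉ normalizer (C : Set G) := by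
        haveI : Group.IsNilpotent (R : Subgroup G) := R.2.isNilpotent
        have hlt := Group.normalizerCondition_of_isNilpotent (R₁.subgroupOf (R : Subgroup G))
          (lt_top_iff_ne_top.2 fun he => hRN fun s hs =>
            (subgroupOf_eq_top.1 he hs).2)
        obtain ⟨⟨g, hgR⟩, hg, hg'⟩ := SetLike.exists_of_lt hlt
        refine ⟨g, hgR, ?_, fun hc => hg' ⟨hgR, hc⟩⟩
        rw [mem_normalizer_iff] at hg ⊢
        intro a
        constructor
        · intro ha
          exact (hg ⟨a, ha.1⟩).1 ha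
        · intro ha
          have haR : a ∈ (R : Subgroup G) := by
            have := mul_mem (mul_mem (inv_mem hgR) ha.1) hgR
            simpa [mul_assoc] using this
          exact (hg ⟨a, haR⟩).2 ha
      set T' := T.map (MulAut.conj g).toMonoidHom with hT'
      have hT'R : T' ≤ R₁ := by
        rintro _ ⟨t, ht, rfl⟩
        exact (mem_normalizer_iff.1 hgN t).1 ⟨ht.1, le_normalizer ht.2⟩
      have hT'pow : ∀ a ∈ T', a ^ r ∈ center G := by
        rintro _ ⟨t, ht, rfl⟩
        rw [← map_pow]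
        exact conj_mem_center (hTel t ht)
      have h1 : C.relIndex T' ≤ r := by
        refine relIndex_le_of_forall hr.out.pos (mem_cen.2 (mem_center_iff.1 hur x).symm)
          fun a ha => ?_
        refine exists_mul_pow_mem hqr' hVq hVc hCV hVfree hVne huC
          (mem_cen.2 (mem_center_iff.1 hur x).symm)
          (mem_cen.2 (mem_center_iff.1 (hT'pow a ha) x).symm)
          (mem_cen.2 (mem_center_iff.1 (hucomm a (hT'R ha).1) x).symm)
          (hCVn u huN) (hCVn a (hT'R ha).2)
      have h2 : C ⊓ T' = center G ⊓ T' := by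
        ext a
        constructor
        · rintro ⟨haC, ha⟩
          refine ⟨?_, ha⟩
          obtain ⟨t, ht, rfl⟩ := ha
          by_contra ha'
          exact hgC (mem_normalizer_cen h hsyl hR hq hqr hx hx' hxq (hTN ht) ht.2
            (fun hc => ha' (conj_mem_center hc)) haC)
        · rintro ⟨hac, ha⟩
          exact ⟨mem_cen.2 (mem_center_iff.1 hac x).symm, ha⟩
      have h3 : (center G).relIndex T' = (center G).relIndex T := by
        have hcm : (center G).map (MulAut.conj g).toMonoidHom = center G := by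
          ext y
          constructor
          · rintro ⟨z, hz, rfl⟩; exact conj_mem_center hz
          · intro hy
            exact ⟨g⁻¹ * y * g, by simpa using conj_mem_center (g := g⁻¹) hy, by simp [mul_assoc]⟩
        conv_lhs => rw [← hcm]
        exact relIndex_map_map_of_injective _ _ (MulAut.conj g).injective
      rw [← h3, ← inf_relIndex_right, ← h2, inf_relIndex_right]
      exact h1
  obtain ⟨hidx, ρ, hρR, hρN, hρC⟩ := hindex
  set π := QuotientGroup.mk' (center G) with hπ
  have hTcard : Nat.card (T.map π) = r := by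
    have hle : Nat.card (T.map π) ≤ r := by
      refine le_trans (le_of_eq ?_) hidx
      rw [← relIndex_ker, hπ, QuotientGroup.ker_mk']
    obtain ⟨n, hn⟩ := IsPGroup.iff_card.1 ((R.2.to_le (inf_le_left : T ≤ _)).map π)
    have hn0 : n ≠ 0 := by
      rintro rfl
      rw [pow_zero, card_eq_one] at hn
      exact ht₀' ((QuotientGroup.eq_one_iff t₀).1 (by
        have : π t₀ ∈ T.map π := mem_map_of_mem π ht₀
        rw [hn, mem_bot] at this
        exact this))
    refine le_antisymm hle ?_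
    rw [hn]
    exact Nat.le_self_pow hn0 r
  have ht₀r : t₀ ^ r ∈ center G := by
    rw [← QuotientGroup.eq_one_iff, QuotientGroup.mk_pow]
    have := pow_card_eq_one' (x := (⟨π t₀, mem_map_of_mem π ht₀⟩ : T.map π))
    rw [hTcard] at this
    exact congrArg Subtype.val this
  -- `r`-elements normalizing `C` centralize `T` modulo the centre
  have hact : ∀ g ∈ normalizer (C : Set G), (∃ k, orderOf g = r ^ k) → ⁅g, t₀⁆ ∈ center G := by
    intro g hg hgr
    have hTn : g ∈ normalizer (T : Set G) := by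
      have key : ∀ g ∈ normalizer (C : Set G), ∀ a ∈ T, g * a * g⁻¹ ∈ T := by
        intro g hg a ha
        set a' := g * a * g⁻¹ with ha'def
        have ha'C : a' ∈ C := (mem_normalizer_iff.1 hg a).1 ha.2
        have ha'N : a' ∈ N := hN.conj_mem a (hTN ha) g
        have ha'r : IsPGroup r (zpowers a') := by
          refine isPGroup_zpowers' ?_
          obtain ⟨k, hk⟩ := exists_orderOf_eq_pow R.2 ha.1
          exact ⟨k, (orderOf_injective (MulAut.conj g).toMonoidHom
            (MulAut.conj g).injective a).trans hk⟩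
        have hnT : zpowers a' ≤ normalizer (T : Set G) := by
          rw [zpowers_le, mem_normalizer_iff]
          intro c
          have hco : ∀ d ∈ T, a' * d * a'⁻¹ = d := fun d hd => by
            rw [hab d (hTN hd) hd.2 a' ha'C, mul_inv_cancel_right]
          constructor
          · intro hc; rw [hco c hc]; exact hc
          · intro hc
            have := hco _ hc
            have hce : a' * c * a'⁻¹ = c := by
              have h2 := congrArg (fun z => a'⁻¹ * z * a') this
              simpa [mul_assoc] using h2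
            rwa [hce] at hc
        have hsup : IsPGroup r (zpowers a' ⊔ T : Subgroup G) :=
          ha'r.to_sup_of_normal_right' (R.2.to_le inf_le_left) hnT
        have hle := card_le_ordProj hsup (sup_le (zpowers_le.2 ha'C) inf_le_right)
        rw [← hRC] at hle
        rw [eq_of_le_of_card_ge (le_sup_right : T ≤ zpowers a' ⊔ T) hle]
        exact mem_sup_left (mem_zpowers a')
      rw [mem_normalizer_iff]
      refine fun a => ⟨key g hg a, fun ha => ?_⟩
      simpa [mul_assoc] using key g⁻¹ (inv_mem hg) _ ha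
    have hS : IsPGroup r (zpowers g ⊔ T : Subgroup G) :=
      (isPGroup_zpowers' hgr).to_sup_of_normal_right' (R.2.to_le inf_le_left) (zpowers_le.2 hTn)
    obtain ⟨y, hy, hy', -, hyc⟩ := exists_nearly_central (p := r) hS le_sup_right
      (fun s hs z hz => mul_inv_mem_of_mem_normalizer
        ((sup_le (zpowers_le.2 hTn) le_normalizer : zpowers g ⊔ T ≤ _) hs) hz) hTnle
    have h1 : π g * π y = π y * π g := by
      rw [← commutatorElement_eq_one_iff_mul_comm, ← map_commutatorElement]
      exact (QuotientGroup.eq_one_iff _).2 (hyc g (mem_sup_left (mem_zpowers g)))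
    have h2 : π t₀ ∈ zpowers (π y) := by
      haveI : Fact (Nat.card (T.map π)).Prime := ⟨hTcard ▸ hr.out⟩
      have hmem := mem_zpowers_of_prime_card (G := T.map π) (p := Nat.card (T.map π)) rfl
        (g := ⟨π y, mem_map_of_mem π hy⟩) (g' := ⟨π t₀, mem_map_of_mem π ht₀⟩)
        (fun he => hy' ((QuotientGroup.eq_one_iff y).1 (congrArg Subtype.val he)))
      obtain ⟨k, hk⟩ := mem_zpowers_iff.1 hmem
      exact mem_zpowers_iff.2 ⟨k, congrArg Subtype.val hk⟩
    rw [← QuotientGroup.eq_one_iff]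
    show π ⁅g, t₀⁆ = 1
    rw [map_commutatorElement, commutatorElement_eq_one_iff_mul_comm]
    obtain ⟨k, hk⟩ := mem_zpowers_iff.1 h2
    rw [← hk]
    exact ((show Commute (π g) (π y) from h1).zpow_right k).eq
  have hct : cen t₀ = C := hcell t₀ (hTN ht₀) ht₀.2 ht₀'
  have hρr : ∃ k, orderOf ρ = r ^ k := exists_orderOf_eq_pow R.2 hρR
  set k := b * ρ * b⁻¹ with hk
  have hkr : ∃ j, orderOf k = r ^ j := by
    obtain ⟨j, hj⟩ := hρr
    exact ⟨j, (orderOf_injective (MulAut.conj b).toMonoidHom (MulAut.conj b).injective ρ).trans hj⟩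
  have hkN : k ∈ normalizer (C : Set G) :=
    mul_mem (mul_mem (hSC b hbS) hρN) (inv_mem (hSC b hbS))
  have h1 := hact ρ hρN hρr
  have h2 := hact k hkN hkr
  obtain ⟨i, hi⟩ := exists_mul_pow_mem hqr' hVq hVc hCV hVfree hVne hρC
    (hct ▸ pow_mem_cen h1 ht₀r) (hct ▸ pow_mem_cen h2 ht₀r) (hct ▸ commutator_mem_cen h2 h1)
    (hCVn ρ hρN) (hCVn k hkN)
  exact false_of_normalizing hqr' hVq hVc hCV hVfree hVne hρC (hct ▸ pow_mem_cen h1 ht₀r)
    (hCVn ρ hρN) (hCVn b (hSC b hbS)) hbC (exists_orderOf_eq_pow S.2 hbS) hi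

omit hsyl hR in
/-- Noncentral primary elements for one prime only: nilpotent. -/
theorem isNilpotent_of_forall_isPower (hone : ∀ x ∈ N, ∀ q : ℕ, q.Prime → q ≠ r →
    (∃ k, orderOf x = q ^ k) → x ∈ center G) : Group.IsNilpotent N := by
  set f : N →* N ⧸ (center G).subgroupOf N := QuotientGroup.mk' _
  have hp : IsPGroup r (N ⧸ (center G).subgroupOf N) := by
    intro a
    obtain ⟨⟨w, hw⟩, rfl⟩ := QuotientGroup.mk'_surjective _ a
    obtain ⟨u, v, huv, hcomm, ⟨k, hk⟩, hv, -, hvz⟩ := Brauer.Induction.exists_pParts r hr.out w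
    refine ⟨k, ?_⟩
    have hvc : v ∈ center G := by
      refine mem_of_primary_parts fun q hq a ha hqa => by_contra fun hne => hne <|
        hone a (zpowers_le.2 (zpowers_le.2 hw hvz) ha) q hq ?_ hqa
      rintro rfl
      obtain ⟨j, hj⟩ := hqa
      obtain ⟨n, rfl⟩ := mem_zpowers_iff.1 ha
      rcases j with _ | j
      · exact hne (by rw [orderOf_eq_one_iff.1 (show orderOf (v ^ n) = 1 by simpa using hj)]; exact one_mem _)
      · exact hv ((dvd_pow_self q (Nat.succ_ne_zero j)).trans (hj ▸ (orderOf_dvd_of_pow_eq_one (by rw [← zpow_natCast, ← zpow_mul, mul_comm, zpow_mul, zpow_natCast, pow_orderOf_eq_one, one_zpow]))))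
    rw [← map_pow, QuotientGroup.mk'_apply, QuotientGroup.eq_one_iff, mem_subgroupOf]
    show w ^ r ^ k ∈ center G
    rw [← huv, hcomm.mul_pow, ← hk, pow_orderOf_eq_one, one_mul]
    exact pow_mem hvc _
  haveI : Group.IsNilpotent (N ⧸ (center G).subgroupOf N) := hp.isNilpotent
  exact Subgroup.isNilpotent_of_ker_le_center f (by
    rw [QuotientGroup.ker_mk']
    exact fun a ha => mem_center_iff.2 fun b => Subtype.ext (mem_center_iff.1 ha (b : G)))

/-- The main theorem. -/
theorem isNilpotent [hN : N.Normal] : Group.IsNilpotent N := by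
  by_cases hone : ∀ x ∈ N, ∀ q : ℕ, q.Prime → q ≠ r → (∃ k, orderOf x = q ^ k) → x ∈ center G
  · exact isNilpotent_of_forall_isPower h hone
  push Not at hone
  obtain ⟨x, hx, q, hq, hqr, hxq, hx'⟩ := hone
  by_cases hrm : r ∣ m
  · exact (false_of_dvd h hsyl hR hq hqr hx hx' hxq hrm).elim
  -- every centralizer contains a Sylow `r`-subgroup
  obtain ⟨R, hRx⟩ := SylowNumbers.Basic.exists_sylow_le (p := r) (cen x) (by rw [h x hx hx']; exact hrm)
  obtain ⟨y, hy, hy'⟩ := Set.not_subset.1 (hR R)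
  refine isNilpotent_of_le_cen h hsyl hR hq hqr hx hx' hxq
    (le_cen_of_cover h hsyl hR hq hqr hx hx' hxq R (inf_le_left.trans hRx) fun w hw hw' => ?_)
  obtain ⟨R', hR'⟩ := SylowNumbers.Basic.exists_sylow_le (p := r) (cen w)
    (by rw [h w hw hw']; exact hrm)
  obtain ⟨g, rfl⟩ := MulAction.exists_smul_eq G R R'
  exact ⟨g, y, ⟨hy, hsyl R hy⟩, hy', hR' ⟨y, hy, rfl⟩⟩

end

end Cfsg.Agent.Lib.TwoClassSizes
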